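import Cfsg.Agent.H93.Th.Rho.Check

/-!
Kernel checks of relators in the matrix group (part 3).
-/

set_option autoImplicit false
set_option maxRecDepth 100000
set_option Elab.async false

namespace H93
namespace Th

theorem rhoOK38 : rhoChk 38 1 = true := by decide +kernel

end Th
end H93
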