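import Cfsg.Agent.H62.Th.Word

/-!
The check that a relator acts as the identity, started from the dense matrix of `u`.
-/

set_option autoImplicit false

namespace H93
namespace Th

/-- the relators with numbers in a range act as the identity -/
noncomputable def rhoChk (lo n : ℕ) : Bool :=
  ((Cfsg.Spor.Th.extra.drop lo).take n).all fun r =>
    H62.Th.sameC H62.Th.code (7 :: H62.Th.relWord r) [7]

end Th
end H93
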